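import Cfsg.Agent.Chev.Univ.Small.Lift
import Cfsg.Agent.Chev.ParabCharP

/-! Central extensions whose kernel has no element of order the characteristic. -/

set_option autoImplicit false

open Cfsg.Lie

namespace Cfsg.Lib.Chev.Univ.Multi.CExt

variable {D : ChevalleyDatum} {C : Cert} {F : Type*} [Field F] {G : Type*} [Group G]
variable {P : St.Pres D C F G} {E : Type*} [Group E] (X : CExt P E)
include X

theorem finite_commutator [Finite G] : Finite (_root_.commutator E) := by
  have : Finite (commutatorSet E) := by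
    refine Set.Finite.to_subtype (Set.Finite.subset (Set.finite_range fun p : G × G =>
      Function.surjInv X.hπ p.1 * Function.surjInv X.hπ p.2 * (Function.surjInv X.hπ p.1)⁻¹ *
        (Function.surjInv X.hπ p.2)⁻¹) ?_)
    rintro _ ⟨a, b, rfl⟩
    exact ⟨(X.π a, X.π b), X.kc_congr (Function.surjInv_eq X.hπ _) (Function.surjInv_eq X.hπ _)⟩
  infer_instance

variable {p : ℕ} (hfree : ∀ z ∈ X.π.ker, z ^ p = 1 → z = 1)
include hfree

theorem eq_of_pow {y y' : E} (h : X.π y = X.π y') (hy : y ^ p = 1) (hy' : y' ^ p = 1) : y = y' := by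
  obtain ⟨z, hz, rfl⟩ := X.central_diff h
  rw [(show Commute y' z from hz y').mul_pow, hy', one_mul] at hy
  have hk : z ∈ X.π.ker := by
    rw [map_mul, mul_eq_left] at h
    exact h
  rw [hfree z hk hy, mul_one]

theorem exists_pow [Finite G] (hG : _root_.commutator G = ⊤) {g : G} (hg : g ^ p = 1) :
    ∃ y : E, X.π y = g ∧ y ^ p = 1 := by
  have := X.finite_commutator
  obtain ⟨y, hy, rfl⟩ : ∃ y ∈ _root_.commutator E, X.π y = g := by
    have : g ∈ (_root_.commutator E).map X.π := by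
      rw [commutator_def, Subgroup.map_commutator, Subgroup.map_top_of_surjective X.π X.hπ, ← commutator_def, hG]
      exact Subgroup.mem_top _
    exact Subgroup.mem_map.1 this
  let K : Subgroup E := X.π.ker ⊓ _root_.commutator E
  have : Finite K := Finite.of_injective _ (Subgroup.inclusion_injective (inf_le_right : K ≤ _root_.commutator E))
  have hyK : y ^ p ∈ K := ⟨MonoidHom.mem_ker.2 (by rw [map_pow, hg]), pow_mem hy p⟩
  have hbij : Function.Surjective (fun z : K => z ^ p) := Finite.surjective_of_injective fun a b e => by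
    have e' : (a : E) ^ p = (b : E) ^ p := by simpa using congrArg Subtype.val e
    have hc : Commute (a : E) (b : E)⁻¹ :=
      (Subgroup.mem_center_iff.1 (X.hz (inv_mem b.2.1)) (a : E))
    refine Subtype.ext (mul_inv_eq_one.1 (hfree _ (mul_mem a.2.1 (inv_mem b.2.1)) ?_))
    rw [hc.mul_pow, inv_pow, e', mul_inv_cancel]
  obtain ⟨w, hw⟩ := hbij ⟨_, inv_mem hyK⟩
  have hw' : (w : E) ^ p = (y ^ p)⁻¹ := by simpa using congrArg Subtype.val hw
  refine ⟨y * w, by rw [map_mul, show X.π (w : E) = 1 from w.2.1, mul_one], ?_⟩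
  rw [(show Commute y (w : E) from Subgroup.mem_center_iff.1 (X.hz w.2.1) y).mul_pow, hw', mul_inv_cancel]

theorem inj_of_pGroup [Finite G] (hp : p.Prime) {U : Subgroup G} (hU : IsPGroup p U) {y : E} (hy : X.π y = 1)
    (hmem : y ∈ Subgroup.closure {z : E | X.π z ∈ U ∧ z ^ p = 1}) : y = 1 := by
  set H := U.comap X.π
  set Z := Subgroup.center H
  let f : H →* ↥U := (X.π.comp H.subtype).codRestrict U fun h => h.2
  have hker : f.ker ≤ Z := fun h hh => by
    have hk : (h : E) ∈ X.π.ker := congrArg Subtype.val hh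
    exact Subgroup.mem_center_iff.2 fun a => Subtype.ext (Subgroup.mem_center_iff.1 (X.hz hk) a.1)
  have hk0 : f.ker.index ≠ 0 := by
    rw [Subgroup.index_ker]; exact Nat.card_pos.ne'
  have : Fact p.Prime := ⟨hp⟩
  obtain ⟨n, hn⟩ := IsPGroup.iff_card.1 hU
  have hdvd : Z.index ∣ p ^ n := hn ▸ (Subgroup.index_dvd_of_le hker).trans
    (by rw [Subgroup.index_ker]; exact Subgroup.card_subgroup_dvd_card f.range)
  have : Z.FiniteIndex := ⟨fun e => by rw [e, zero_dvd_iff] at hdvd; exact pow_ne_zero n hp.ne_zero hdvd⟩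
  obtain ⟨k, hk⟩ := hdvd
  let τ : H →* Z :=
    { toFun := fun h => MonoidHom.transferCenterPow H h ^ (k * p)
      map_one' := by rw [map_one, one_pow]
      map_mul' := fun a b => by
        rw [map_mul, Commute.mul_pow]
        exact Subtype.ext ((Subgroup.mem_center_iff.1 (MonoidHom.transferCenterPow H b).2 _)) }
  have hτ : ∀ h : H, ((τ h : H) : E) = (h : E) ^ (p ^ (n + 1)) := fun h => by
    show (((MonoidHom.transferCenterPow H h ^ (k * p) : Z) : H) : E) = _
    rw [SubmonoidClass.coe_pow, MonoidHom.transferCenterPow_apply, ← pow_mul, SubmonoidClass.coe_pow,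
      pow_succ p n, hk, mul_assoc]
  have hzero : ∀ z : E, z ∈ Subgroup.closure {z : E | X.π z ∈ U ∧ z ^ p = 1} →
      ∃ hz : z ∈ H, τ ⟨z, hz⟩ = 1 := by
    intro z hz
    induction hz using Subgroup.closure_induction with
    | mem z hz =>
      refine ⟨hz.1, Subtype.ext (Subtype.ext ?_)⟩
      rw [hτ, pow_succ', pow_mul, hz.2, one_pow]
      rfl
    | one => exact ⟨one_mem _, map_one τ⟩
    | mul a b _ _ iha ihb =>
      obtain ⟨ha, ha'⟩ := iha
      obtain ⟨hb, hb'⟩ := ihb
      exact ⟨mul_mem ha hb, by rw [show (⟨a * b, mul_mem ha hb⟩ : H) = ⟨a, ha⟩ * ⟨b, hb⟩ from rfl, map_mul, ha', hb',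
        one_mul]⟩
    | inv a _ iha =>
      obtain ⟨ha, ha'⟩ := iha
      exact ⟨inv_mem ha, by rw [show (⟨a⁻¹, inv_mem ha⟩ : H) = ⟨a, ha⟩⁻¹ from rfl, map_inv, ha', inv_one]⟩
  obtain ⟨hyH, hy1⟩ := hzero y hmem
  have h1 : y ^ (p ^ (n + 1)) = 1 := by
    rw [← hτ ⟨y, hyH⟩, hy1]; rfl
  clear hy1 hmem
  suffices ∀ m, ∀ z ∈ X.π.ker, z ^ p ^ m = 1 → z = 1 from this (n + 1) y hy h1
  intro m
  induction m with
  | zero => intro z _ e; simpa using e
  | succ m ih =>
    intro z hz e
    refine ih z hz (hfree _ (pow_mem hz _) ?_)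
    rw [← pow_mul, ← pow_succ, e]

/-- The lifts of order dividing the characteristic, with their data. -/
theorem exists_lext_coprime [Finite G] [CharP F p] (hp : p.Prime) (hG : _root_.commutator G = ⊤) {U : Subgroup G}
    (hU : IsPGroup p U) (hmem : ∀ r < D.nroots, D.nroots / 2 ≤ r → ∀ t, P.x r t ∈ U)
    (hmix : ∀ k < D.rank, ∀ s < D.nroots, ¬ D.nroots / 2 ≤ s → s ≠ D.neg (C.sr k) → MixAt D C k s) :
    ∃ Y : LExt P E, Y.toCExt = X := by
  have hxp : ∀ r < D.nroots, ∀ t : F, P.x r t ^ p = 1 := fun r hr t => by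
    have : ∀ m : ℕ, P.x r t ^ m = P.x r ((m : F) * t) := fun m => by
      induction m with
      | zero => rw [pow_zero, Nat.cast_zero, zero_mul, P.x_zero hr]
      | succ m ih => rw [pow_succ, ih, P.hx r hr]; push_cast; ring_nf
    rw [this, CharP.cast_eq_zero, zero_mul, P.x_zero hr]
  have hplus : ∀ r < D.nroots, ∃ U' : Subgroup G, IsPGroup p U' ∧ ∀ t, P.x r t ∈ U' := fun r hr => by
    let xh : Multiplicative F →* G :=
      { toFun := fun t => P.x r t.toAdd
        map_one' := P.x_zero hr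
        map_mul' := fun a b => (P.hx r hr a.toAdd b.toAdd).symm }
    refine ⟨xh.range, fun g => ⟨1, ?_⟩, fun t => ⟨Multiplicative.ofAdd t, rfl⟩⟩
    obtain ⟨g, t, rfl⟩ := g
    exact Subtype.ext (by rw [pow_one, SubmonoidClass.coe_pow]; exact hxp r hr t.toAdd)
  let ps : ℕ → F → E := fun r t =>
    if hr : r < D.nroots then (X.exists_pow hfree hG (hxp r hr t)).choose else 1
  have hps : ∀ {r : ℕ} (hr : r < D.nroots) (t : F), X.π (ps r t) = P.x r t ∧ ps r t ^ p = 1 := fun {r} hr t => by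
    simp only [ps, dif_pos hr]
    exact (X.exists_pow hfree hG (hxp r hr t)).choose_spec
  have hconj : ∀ {r q : ℕ}, r < D.nroots → q < D.nroots → ∀ {a : E} {t w : F},
      X.π a * P.x r t * (X.π a)⁻¹ = P.x q w → a * ps r t * a⁻¹ = ps q w := fun {r q} hr hq {a t w} e =>
    X.eq_of_pow hfree (by rw [map_mul, map_mul, map_inv, (hps hr t).1, (hps hq w).1, e])
      (by rw [conj_pow, (hps hr t).2, mul_one, mul_inv_cancel]) (hps hq w).2
  refine ⟨{ X with
    ps := ps
    ps_π := fun hr t => (hps hr t).1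
    ps_add := fun {r} hr t u => ?_
    ps_torus := fun {r} hr {H} _ {t w} hw => hconj hr hr hw
    ps_nn := fun {i r} hi hr t {N} hN => hconj hr (P.S.ok.w_lt hi hr) (by rw [hN, P.nconj hi hr])
    pair := fun {r s} hr hs h1 h2 => Or.inr fun hrp hsp => Or.inr fun t u => ?_
    mix := fun hk _ hs => hmix _ hk _ hs }, rfl⟩
  · obtain ⟨U', hU', hxU⟩ := hplus r hr
    refine mul_inv_eq_one.1 (X.inj_of_pGroup hfree hp hU' ?_ ?_)
    · rw [map_mul, map_inv, map_mul, (hps hr _).1, (hps hr _).1, (hps hr _).1, P.hx r hr, mul_inv_cancel]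
    · have hm : ∀ v, ps r v ∈ Subgroup.closure {z : E | X.π z ∈ U' ∧ z ^ p = 1} := fun v =>
        Subgroup.subset_closure ⟨by rw [(hps hr v).1]; exact hxU v, (hps hr v).2⟩
      exact mul_mem (hm _) (inv_mem (mul_mem (hm _) (hm _)))
  · refine mul_inv_eq_one.1 (X.inj_of_pGroup hfree hp hU ?_ ?_)
    · rw [map_mul, map_inv, Ext.cm, map_mul, map_mul, map_mul, map_inv, map_inv, (hps hr t).1, (hps hs u).1,
        P.hc r hr s hs h1 h2, mul_inv_eq_one, map_list_prod, List.map_map]
      refine congrArg List.prod (List.map_congr_left fun q hq => ?_)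
      obtain ⟨q', hq', e⟩ := P.commWord_idx _ _ hq
      exact ((hps (e ▸ Ok.commTerms_lt P.S.chain hr hs hq') _).1).symm
    · have hm : ∀ {q : ℕ}, q < D.nroots → D.nroots / 2 ≤ q → ∀ v,
          ps q v ∈ Subgroup.closure {z : E | X.π z ∈ U ∧ z ^ p = 1} := fun {q} hq hqp v =>
        Subgroup.subset_closure ⟨by rw [(hps hq v).1]; exact hmem q hq hqp v, (hps hq v).2⟩
      refine mul_mem ?_ (inv_mem (list_prod_mem fun z hz => ?_))
      · exact mul_mem (mul_mem (mul_mem (inv_mem (hm hs hsp u)) (inv_mem (hm hr hrp t))) (hm hs hsp u)) (hm hr hrp t)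
      · obtain ⟨q, hq, rfl⟩ := List.mem_map.1 hz
        obtain ⟨q', hq', e⟩ := P.commWord_idx _ _ hq
        obtain ⟨g1, -, g3⟩ := P.S.commTerms_gt hr hs hrp hsp hq'
        exact hm (e ▸ g3) (e ▸ by omega) _

end Cfsg.Lib.Chev.Univ.Multi.CExt
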