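import Cfsg.Agent.Chev.Univ.Small.Coprime
import Cfsg.Agent.Chev.Univ.Small.Data
import Cfsg.Agent.Chev.Univ.Multi.Main
import Mathlib.LinearAlgebra.Matrix.GeneralLinearGroup.Projective

/-! Lifting maps of the Chevalley group over a small field through central extensions without torsion of order the
characteristic. -/

set_option autoImplicit false
set_option Elab.async false
set_option maxHeartbeats 0
set_option maxRecDepth 20000

open Cfsg.Lie

namespace Cfsg.Lib.Chev.Univ.Small

open Multi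

theorem okMix_G2 : okMixAll chevG2 G2.cert tabG2.Ws = true := by decide +kernel
theorem okMix_F4 : okMixAll chevF4 F4.cert tabF4even.Ws = true := by decide +kernel

theorem scalar_free {L : Type*} [Field L] {p : ℕ} [CharP L p] (hp : p.Prime) {n : ℕ} {g : GL (Fin n) L}
    (hg : g ∈ Subgroup.center (GL (Fin n) L)) (h : g ^ p = 1) : g = 1 := by
  rcases Nat.eq_zero_or_pos n with rfl | hn
  · exact Units.ext (Subsingleton.elim _ _)
  rw [Matrix.GeneralLinearGroup.center_eq_range_scalar] at hg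
  obtain ⟨c, rfl⟩ := hg
  have hinj : Function.Injective (Matrix.GeneralLinearGroup.scalar (Fin n) : Lˣ →* GL (Fin n) L) := by
    intro a b e
    have e' := congrFun (congrFun (congrArg (fun g : GL (Fin n) L => (g : Matrix (Fin n) (Fin n) L)) e) ⟨0, hn⟩) ⟨0, hn⟩
    simp at e'
    exact Units.ext (by simpa using e')
  rw [← map_pow] at h
  have hc : c ^ p = 1 := hinj (h.trans (map_one _).symm)
  have : Fact p.Prime := ⟨hp⟩
  have h1 : ((c : L) - 1) ^ p = 0 := by
    rw [sub_pow_char, one_pow, sub_eq_zero, ← Units.val_pow_eq_pow_val, hc, Units.val_one]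
  rw [show c = 1 from Units.ext (sub_eq_zero.1 (eq_zero_of_pow_eq_zero h1)), map_one]

variable {D : ChevalleyDatum} {C : Cert} {K : Type*} [Field K]

theorem exists_lift_coprime [Finite K] (hD : D ∈ [chevG2, chevB2, chevD4, chevF4, chevE6, chevE7, chevE8])
    (hperf : _root_.commutator (D.SteinbergCover K) = ⊤) (θ : D.SteinbergCover K →* ↥(D.group K))
    (hθ : ∀ (r : ℕ) (t : K), r < D.nroots → ((θ (D.scGen K r t) : GL D.Idx K) : Matrix D.Idx D.Idx K) = D.x K r t)
    {p : ℕ} [CharP K p] (hp : p.Prime) {E₀ G₁ : Type*} [Group E₀] [Group G₁] (π₁ : E₀ →* G₁)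
    (hπ : Function.Surjective π₁) (hc : π₁.ker ≤ Subgroup.center E₀) (hfree : ∀ z ∈ π₁.ker, z ^ p = 1 → z = 1)
    (φ : ↥(D.group K) →* G₁) : ∃ τ : D.SteinbergCover K →* E₀, π₁.comp τ = φ.comp θ := by
  classical
  have := Fintype.ofFinite K
  have key : ∀ {C : Cert} (S : Struct D C) (hN : okNeg D = true) (ok : ∃ W, St.okSt D C W = true),
      ((∃ Ws, okMixAll D C Ws = true) ∨ OkU D C) → ∃ τ : D.SteinbergCover K →* E₀, π₁.comp τ = φ.comp θ := by
    intro C S hN ok h
    have hθ₀ : ∀ r < D.nroots, ∀ t, (D.group K).subtype.comp θ (St.pgen (D.steinbergRelsAB K) r t) =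
        S.ok.xG r t := fun r hr t => Units.ext (hθ r t hr)
    set P₀ := St.presentedPres S hN ok (subset_refl (D.steinbergRelsAB K)) ((D.group K).subtype.comp θ) hθ₀
    have hgen₀ := St.presentedPres_gen_top S hN ok (subset_refl (D.steinbergRelsAB K))
      ((D.group K).subtype.comp θ) hθ₀
    let PG : St.Pres D C K ↥(D.group K) :=
      { S := S, hN := hN, ok := ok, x := fun r t => θ (P₀.x r t)
        hx := fun r hr t u => by rw [← map_mul, P₀.hx r hr]
        hc := fun r hr s hs h1 h2 t u => by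
          rw [← map_inv, ← map_inv, ← map_mul, ← map_mul, ← map_mul, P₀.hc r hr s hs h1 h2, map_list_prod,
            List.map_map]
          rfl
        θ := (D.group K).subtype
        hθ := hθ₀ }
    have hθs : Function.Surjective θ := by
      rintro ⟨y, hy⟩
      rw [← St.range_eq_group P₀ hgen₀] at hy
      obtain ⟨g, hg⟩ := hy
      exact ⟨g, Subtype.ext hg⟩
    have hgen : PG.gen {r | r < D.nroots} = ⊤ := by
      rw [eq_top_iff, ← MonoidHom.range_eq_top.2 hθs, MonoidHom.range_eq_map, ← hgen₀, St.Pres.gen, St.Pres.gen,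
        MonoidHom.map_closure, Subgroup.closure_le]
      rintro _ ⟨_, ⟨r, hr, t, rfl⟩, rfl⟩
      exact PG.mem_gen (A := {r | r < D.nroots}) hr t
    let E' : Subgroup (E₀ × ↥(D.group K)) :=
      { carrier := {q | π₁ q.1 = φ q.2}
        one_mem' := by simp
        mul_mem' := fun {a b} ha hb => by
          simp only [Set.mem_setOf_eq, Prod.fst_mul, Prod.snd_mul, map_mul] at *; rw [ha, hb]
        inv_mem' := fun {a} ha => by simp only [Set.mem_setOf_eq, Prod.fst_inv, Prod.snd_inv, map_inv] at *; rw [ha] }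
    let π : E' →* ↥(D.group K) := (MonoidHom.snd _ _).comp E'.subtype
    have hs : Function.Surjective π := fun d => by
      obtain ⟨e, he⟩ := hπ (φ d)
      exact ⟨⟨(e, d), he⟩, rfl⟩
    have hk : ∀ y : E', y ∈ π.ker → y.1.1 ∈ π₁.ker ∧ y.1.2 = 1 := fun y hy =>
      ⟨by rw [MonoidHom.mem_ker, show π₁ y.1.1 = φ y.1.2 from y.2, show y.1.2 = 1 from hy, map_one], hy⟩
    have hz : π.ker ≤ Subgroup.center E' := fun y hy => Subgroup.mem_center_iff.2 fun a =>
      Subtype.ext (Prod.ext (Subgroup.mem_center_iff.1 (hc (hk y hy).1) _) (by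
        show a.1.2 * y.1.2 = y.1.2 * a.1.2
        rw [(hk y hy).2, mul_one, one_mul]))
    have hfree' : ∀ z ∈ π.ker, z ^ p = 1 → z = 1 := fun z hzk hzp => Subtype.ext (Prod.ext
      (hfree _ (hk z hzk).1 (congrArg (fun y : E' => y.1.1) hzp)) (hk z hzk).2)
    obtain ⟨τ, hτ⟩ : ∃ τ : D.SteinbergCover K →* E', ∀ r < D.nroots, ∀ t, π (τ (D.scGen K r t)) = PG.x r t := by
      rcases h with ⟨Ws, hW⟩ | h
      · have : Finite ↥(D.group K) := by
          have : Finite (GL D.Idx K) := Finite.of_injective (fun g => (g : Matrix D.Idx D.Idx K)) fun _ _ e =>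
            Units.ext e
          exact Finite.of_injective _ Subtype.val_injective
        let X : CExt PG E' := ⟨π, hs, hz, hgen⟩
        have hG : _root_.commutator ↥(D.group K) = ⊤ := by
          rw [commutator_def, ← Subgroup.map_top_of_surjective θ hθs, ← Subgroup.map_commutator, ← commutator_def,
            hperf]
        have : Fact p.Prime := ⟨hp⟩
        obtain ⟨Y, hY⟩ := X.exists_lext_coprime hfree' hp hG
          (U := (D.posUnipotent K).subgroupOf (D.group K)) ((isPGroup_posUnipotent p S).comap_subtype)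
          (fun r hr hrp t => Subgroup.mem_subgroupOf.2 (Subgroup.subset_closure ⟨r, t, S.isPos_iff.2 ⟨hrp, hr⟩, hθ r t hr⟩))
          (fun k hk' s hs' => CExt.mix_of_okMixAll PG hW hk' hs')
        obtain ⟨τ, hτ⟩ := Y.exists_section
        refine ⟨τ, fun r hr t => ?_⟩
        have := hτ r hr t
        rw [hY] at this
        exact this
      · exact (⟨π, hs, hz, h⟩ : Ext PG E').exists_section
    refine ⟨((MonoidHom.fst _ _).comp E'.subtype).comp τ, PresentedGroup.ext fun q => ?_⟩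
    have h1 := hτ q.1.val q.1.isLt q.2
    rw [show D.scGen K q.1.val q.2 = PresentedGroup.of q from pgen_eq_of _ q] at h1
    show π₁ (τ (PresentedGroup.of q)).1.1 = φ (θ (PresentedGroup.of q))
    rw [(τ (PresentedGroup.of q)).2]
    refine congrArg φ (h1.trans ?_)
    show θ (P₀.x q.1.val q.2) = _
    exact congrArg θ (pgen_eq_of _ q)
  simp only [List.mem_cons, List.not_mem_nil, or_false] at hD
  rcases hD with rfl | rfl | rfl | rfl | rfl | rfl | rfl
  · exact key ⟨G2.ok, G2.okChain_, G2.okBase_all, okOrder_G2⟩ okNeg_G2 ⟨_, St.okSt_G2⟩ (Or.inl ⟨_, okMix_G2⟩)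
  · exact key ⟨B2.ok, B2.okChain_, B2.okBase_all, okOrder_B2⟩ okNeg_B2 ⟨_, St.okSt_B2⟩ (Or.inl ⟨_, okMix_B2⟩)
  · exact key ⟨D4.ok, D4.okChain_, D4.okBase_all, okOrder_D4⟩ okNeg_D4 ⟨_, St.okSt_D4⟩ (Or.inl ⟨_, okMix_D4⟩)
  · exact key ⟨F4.ok, F4.okChain_, F4.okBase_all, okOrder_F4⟩ okNeg_F4 ⟨_, St.okSt_F4⟩ (Or.inl ⟨_, okMix_F4⟩)
  · exact key ⟨E6.ok, E6.okChain_, E6.okBase_all, okOrder_E6⟩ okNeg_E6 ⟨_, St.okSt_E6⟩ (Or.inr okU_E6)
  · exact key ⟨E7.ok, E7.okChain_, E7.okBase_all, okOrder_E7⟩ okNeg_E7 ⟨_, St.okSt_E7⟩ (Or.inr okU_E7)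
  · exact key ⟨E8.ok, E8.okChain_, E8.okBase_all, okOrder_E8⟩ okNeg_E8 ⟨_, St.okSt_E8⟩ (Or.inr okU_E8)

end Cfsg.Lib.Chev.Univ.Small
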